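import Groth.Prelude.Def_Flat
import Mathlib.Topology.KrullDimension
import Mathlib.Topology.NoetherianSpace
import Mathlib.Topology.Sober
import Mathlib.Topology.Separation.Basic
import Mathlib.Topology.Semicontinuity.Basic

/-!
# Elementary properties of the local dimension of a topological space
-/

set_option autoImplicit false
universe u

open Topology TopologicalSpace

namespace Groth.Agent.TopDim

variable {X : Type u} [TopologicalSpace X]

theorem localDim_le_dim (x : X) : FlatMor.localDim X x ≤ topologicalKrullDim X :=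
  (iInf_le _ (⟨⊤, trivial⟩ : {U : Opens X // x ∈ U})).trans IsInducing.subtypeVal.topologicalKrullDim_le

theorem exists_nhd_eq_localDim (x : X) : ∃ U : Opens X, x ∈ U ∧ topologicalKrullDim U.1 = FlatMor.localDim X x := by
  haveI : Nonempty {U : Opens X // x ∈ U} := ⟨⟨⊤, trivial⟩⟩
  obtain ⟨⟨U, hU⟩, h⟩ := ciInf_mem fun U : {U : Opens X // x ∈ U} => topologicalKrullDim (U.1 : Set X)
  exact ⟨U, hU, h⟩

theorem dim_mono {S T : Set X} (h : S ⊆ T) : topologicalKrullDim S ≤ topologicalKrullDim T :=
  (IsEmbedding.inclusion h).isInducing.topologicalKrullDim_le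

/-- A chain of irreducible closed sets restricts to any open set meeting its smallest member. -/
theorem length_le_dim_open (l : LTSeries (IrreducibleCloseds X)) (U : Opens X) {x : X}
    (hx : x ∈ (l 0 : Set X)) (hxU : x ∈ U) : (l.length : WithBot ℕ∞) ≤ topologicalKrullDim U.1 := by
  have hmem : ∀ i, x ∈ (l i : Set X) := fun i => (l.monotone (Fin.zero_le i)) hx
  let j : Fin (l.length + 1) → IrreducibleCloseds U.1 := fun i =>
    { carrier := Subtype.val ⁻¹' (l i : Set X)
      isIrreducible' := (l i).isIrreducible.preimage U.2.isOpenEmbedding_subtypeVal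
        ⟨x, hmem i, by rw [Subtype.range_coe]; exact hxU⟩
      isClosed' := (l i).isClosed.preimage continuous_subtype_val }
  refine Order.le_krullDim_iff.mpr ⟨⟨l.length, j, fun i => ?_⟩, rfl⟩
  refine lt_of_le_of_ne (show j i.castSucc ≤ j i.succ from fun a ha => (show l i.castSucc ≤ l i.succ from (l.step i).le) ha) fun e => (show l i.castSucc < l i.succ from l.step i).ne ?_
  have h1 : (l i.castSucc : Set X) ∩ U = (l i.succ : Set X) ∩ U := by
    ext z
    refine ⟨fun hz => ⟨(show l i.castSucc ≤ l i.succ from (l.step i).le) hz.1, hz.2⟩, fun hz => ⟨?_, hz.2⟩⟩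
    have : (⟨z, hz.2⟩ : U.1) ∈ (j i.succ : Set U.1) := hz.1
    rw [← e] at this
    exact this
  refine le_antisymm (l.step i).le fun z hz => ?_
  have h2 : z ∈ closure ((l i.succ : Set X) ∩ U) :=
    subset_closure_inter_of_isPreirreducible_of_isOpen (l i.succ).isIrreducible.2 U.2
      ⟨x, hmem _, hxU⟩ hz
  rw [← h1] at h2
  exact closure_minimal Set.inter_subset_left (l i.castSucc).isClosed h2

theorem length_le_localDim (l : LTSeries (IrreducibleCloseds X)) {x : X} (hx : x ∈ (l 0 : Set X)) :
    (l.length : WithBot ℕ∞) ≤ FlatMor.localDim X x :=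
  le_iInf fun U => length_le_dim_open l U.1 hx U.2

/-- The dimension is the supremum of the local dimensions. -/
theorem dim_eq_iSup_localDim : topologicalKrullDim X = ⨆ x : X, FlatMor.localDim X x :=
  le_antisymm (iSup_le fun l =>
    le_iSup_of_le (l 0).isIrreducible.nonempty.some (length_le_localDim l (l 0).isIrreducible.nonempty.some_mem))
    (iSup_le localDim_le_dim)

/-- In a Noetherian Kolmogorov space closed points suffice. -/
theorem dim_eq_iSup_closed_localDim [NoetherianSpace X] [T0Space X] :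
    topologicalKrullDim X = ⨆ x ∈ {x : X | IsClosed ({x} : Set X)}, FlatMor.localDim X x := by
  refine le_antisymm (iSup_le fun l => ?_) (iSup₂_le fun x _ => localDim_le_dim x)
  obtain ⟨x, hx, hxc⟩ := IsClosed.exists_closed_singleton (l 0).isClosed (l 0).isIrreducible.nonempty
  exact le_iSup₂_of_le x hxc (length_le_localDim l hx)

theorem upperSemicontinuous_localDim : UpperSemicontinuous fun x : X => FlatMor.localDim X x := by
  intro x r hr
  obtain ⟨U, hU⟩ := iInf_lt_iff.mp (show (⨅ U : {U : Opens X // x ∈ U}, _) < r from hr)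
  exact Filter.mem_of_superset (U.1.2.mem_nhds U.2) fun y hy =>
    show FlatMor.localDim X y < r from (iInf_le _ (⟨U.1, hy⟩ : {V : Opens X // y ∈ V})).trans_lt hU

theorem localDim_eq_zero_of_isOpen {x : X} (h : IsOpen ({x} : Set X)) : FlatMor.localDim X x = 0 := by
  refine le_antisymm ((iInf_le _ (⟨⟨{x}, h⟩, rfl⟩ : {U : Opens X // x ∈ U})).trans ?_) (le_iInf fun U => ?_)
  · haveI : DiscreteTopology ({x} : Set X) := Subsingleton.discreteTopology; exact topologicalKrullDim_zero_of_discreteTopology _
  · haveI : Nonempty U.1.1 := ⟨⟨x, U.2⟩⟩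
    exact Order.krullDim_nonneg_iff.mpr ⟨⟨closure {(⟨x, U.2⟩ : U.1.1)}, isIrreducible_singleton.closure, isClosed_closure⟩⟩

/-- A Noetherian Kolmogorov space of dimension zero is discrete. -/
theorem isOpen_singleton_of_dim_le_zero [NoetherianSpace X] [T0Space X] (h : topologicalKrullDim X ≤ 0) (x : X) :
    IsOpen ({x} : Set X) := by
  have hmax : ∀ Z : IrreducibleCloseds X, IsMax Z := Order.krullDim_nonpos_iff_forall_isMax.mp h
  have hcl : ∀ a : X, IsClosed ({a} : Set X) := fun a => by
    rw [← closure_subset_iff_isClosed]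
    intro b hb
    have hle : (⟨closure {b}, isIrreducible_singleton.closure, isClosed_closure⟩ : IrreducibleCloseds X) ≤
        ⟨closure {a}, isIrreducible_singleton.closure, isClosed_closure⟩ :=
      closure_minimal (Set.singleton_subset_iff.mpr hb) isClosed_closure
    have ha : a ∈ closure ({b} : Set X) := hmax _ hle (subset_closure rfl)
    exact Set.mem_singleton_iff.mpr
      ((specializes_iff_mem_closure.mpr ha).antisymm (specializes_iff_mem_closure.mpr hb)).eq
  haveI : T1Space X := ⟨hcl⟩
  have hfin : (Set.univ : Set X).Finite := by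
    rw [← sUnion_irreducibleComponents]
    refine Set.Finite.sUnion NoetherianSpace.finite_irreducibleComponents fun Z hZ => ?_
    obtain ⟨a, ha⟩ := hZ.1.nonempty
    have hle : (⟨{a}, isIrreducible_singleton, hcl a⟩ : IrreducibleCloseds X) ≤
        ⟨Z, hZ.1, isClosed_of_mem_irreducibleComponents _ hZ⟩ := Set.singleton_subset_iff.mpr ha
    have : Z ⊆ {a} := hmax _ hle
    exact (Set.finite_singleton a).subset this
  haveI : Finite X := Set.finite_univ_iff.mp hfin
  exact isOpen_discrete _

theorem isOpen_singleton_of_localDim_eq_zero {x : X} (U : Opens X) (hxU : x ∈ U) [NoetherianSpace U.1]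
    [T0Space X] (h : FlatMor.localDim X x = 0) : IsOpen ({x} : Set X) := by
  obtain ⟨V, hxV, hV⟩ := exists_nhd_eq_localDim x
  haveI : NoetherianSpace (U ⊓ V).1 :=
    (IsEmbedding.inclusion (show ((U ⊓ V : Opens X) : Set X) ⊆ U from Set.inter_subset_left)).isInducing.noetherianSpace
  have h1 := isOpen_singleton_of_dim_le_zero
    (((dim_mono (show ((U ⊓ V : Opens X) : Set X) ⊆ V from Set.inter_subset_right)).trans_eq (hV.trans h))) ⟨x, hxU, hxV⟩
  have := (U ⊓ V).2.isOpenEmbedding_subtypeVal.isOpenMap _ h1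
  rwa [Set.image_singleton] at this

/-- A chain inside a closed set bounds its dimension from below. -/
theorem length_le_dim_closed (l : LTSeries (IrreducibleCloseds X)) {S : Set X} (hS : IsClosed S)
    (h : (l ⟨l.length, Nat.lt_succ_self _⟩ : Set X) ⊆ S) : (l.length : WithBot ℕ∞) ≤ topologicalKrullDim S := by
  have hsub : ∀ k, (l k : Set X) ⊆ S := fun k =>
    Set.Subset.trans (l.monotone (show k ≤ ⟨l.length, Nat.lt_succ_self _⟩ from Fin.le_last k)) h
  let j : Fin (l.length + 1) → IrreducibleCloseds S := fun k =>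
    { carrier := Subtype.val ⁻¹' (l k : Set X)
      isIrreducible' := by
        obtain ⟨a, ha⟩ := (l k).isIrreducible.nonempty
        refine ⟨⟨⟨a, hsub k ha⟩, ha⟩, ?_⟩
        rintro u v hu hv ⟨p, hp, hpu⟩ ⟨q, hq, hqv⟩
        obtain ⟨u', hu', rfl⟩ := isOpen_induced_iff.mp hu
        obtain ⟨v', hv', rfl⟩ := isOpen_induced_iff.mp hv
        obtain ⟨r, hr, hru, hrv⟩ := (l k).isIrreducible.2 u' v' hu' hv' ⟨p.1, hp, hpu⟩ ⟨q.1, hq, hqv⟩
        exact ⟨⟨r, hsub k hr⟩, hr, hru, hrv⟩
      isClosed' := (l k).isClosed.preimage continuous_subtype_val }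
  refine Order.le_krullDim_iff.mpr ⟨⟨l.length, j, fun i => ?_⟩, rfl⟩
  refine lt_of_le_of_ne (show j i.castSucc ≤ j i.succ from fun a ha => (show l i.castSucc ≤ l i.succ from (l.step i).le) ha) fun e =>
    (show l i.castSucc < l i.succ from l.step i).ne ?_
  refine le_antisymm (l.step i).le fun z hz => ?_
  have : (⟨z, hsub _ hz⟩ : S) ∈ (j i.succ : Set S) := hz
  rw [← e] at this
  exact this

/-- A finite closed cover through the point computes the local dimension. -/
theorem localDim_eq_iSup_of_cover (x : X) {ι : Type u} [Finite ι] (Y : ι → Set X) (hY : ∀ i, IsClosed (Y i))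
    (hx : ∀ i, x ∈ Y i) (hcov : ⋃ i, Y i = Set.univ) :
    FlatMor.localDim X x = ⨆ i, FlatMor.localDim (Y i) ⟨x, hx i⟩ := by
  classical
  haveI := Fintype.ofFinite ι
  refine le_antisymm ?_ (iSup_le fun i => le_iInf fun U => ?_)
  · choose W hxW hW using fun i => exists_nhd_eq_localDim (⟨x, hx i⟩ : Y i)
    choose U hU hUW using fun i => isOpen_induced_iff.mp (W i).2
    let V : Opens X := ⟨⋂ i, U i, isOpen_iInter_of_finite hU⟩
    have hxV : x ∈ V := Set.mem_iInter.mpr fun i => (hUW i).ge (hxW i)
    refine (iInf_le _ (⟨V, hxV⟩ : {U : Opens X // x ∈ U})).trans (iSup_le fun l => ?_)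
    obtain ⟨i, hi⟩ : ∃ i, (l ⟨l.length, by omega⟩ : Set V.1) ⊆ Subtype.val ⁻¹' Y i := by
      obtain ⟨z, hz, hzi⟩ := isIrreducible_iff_sUnion_isClosed.mp (l ⟨l.length, by omega⟩).isIrreducible
        (Finset.univ.image fun i => (Subtype.val ⁻¹' Y i : Set V.1)) (fun z hz => by
          obtain ⟨i, -, rfl⟩ := Finset.mem_image.mp hz
          exact (hY i).preimage continuous_subtype_val) (fun a _ => by
          obtain ⟨i, hi⟩ := Set.mem_iUnion.mp (hcov.ge (Set.mem_univ a.1))
          exact ⟨_, Finset.mem_image.mpr ⟨i, Finset.mem_univ i, rfl⟩, hi⟩)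
      obtain ⟨i, -, rfl⟩ := Finset.mem_image.mp hz
      exact ⟨i, hzi⟩
    refine le_iSup_of_le i (le_trans ?_ (hW i).le)
    let g : (Subtype.val ⁻¹' Y i : Set V.1) → (W i).1 := fun a =>
      ⟨⟨a.1.1, a.2⟩, (hUW i).le (show a.1.1 ∈ U i from Set.mem_iInter.mp a.1.2 i)⟩
    have hg : IsInducing g := by
      refine IsInducing.of_comp (by fun_prop) (g := fun b : (W i).1 => (b.1.1 : X))
        (by fun_prop) ?_
      exact IsInducing.comp (g := Subtype.val) (f := Subtype.val) IsInducing.subtypeVal IsInducing.subtypeVal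
    exact (length_le_dim_closed l ((hY i).preimage continuous_subtype_val) hi).trans hg.topologicalKrullDim_le
  · let O : Opens (Y i) := ⟨Subtype.val ⁻¹' (U.1 : Set X), U.1.2.preimage continuous_subtype_val⟩
    refine (iInf_le _ (⟨O, U.2⟩ : {U : Opens (Y i) // (⟨x, hx i⟩ : Y i) ∈ U})).trans ?_
    let g : O.1 → U.1.1 := fun a => ⟨a.1.1, a.2⟩
    refine (?_ : IsInducing g).topologicalKrullDim_le
    refine IsInducing.of_comp (by fun_prop) (g := fun b : U.1.1 => (b.1 : X)) (by fun_prop) ?_
    exact IsInducing.comp (g := Subtype.val) (f := Subtype.val) IsInducing.subtypeVal IsInducing.subtypeVal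

end Groth.Agent.TopDim
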